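import Mathlib
import Cfsg.Prelude.Def_Local
import Cfsg.Agent.Lib.Helper1.Cores

set_option autoImplicit false

namespace Cfsg.Agent.Lib.Helper24.SCH

open scoped commutatorElement

universe u v

structure SchP (p : ℕ) (T : Type u) [Group T] : Prop where
  class2 : ∀ x y z : T, ⁅x, y⁆ * z = z * ⁅x, y⁆
  semi : ∀ x : T, x ∉ Subgroup.center T → ∀ u v : T, ∃ y : T, ⁅x, y⁆ = ⁅u, v⁆
  powp : ∀ x y : T, x ^ p * y = y * x ^ p
  cen : Subgroup.center T ≤ commutator T
  small : p ≤ 3 → Nat.card T = p ^ 3 → ∀ a : T, a ^ p = 1 → a ∈ Subgroup.center T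

structure SchAct (p q : ℕ) (T : Type u) [Group T] (α : MulAut T) : Prop where
  pgroup : IsPGroup p T
  qprime : q.Prime
  qne : q ≠ p
  powq : α ^ q = 1
  ne_one : α ≠ 1
  min : ∀ S : Subgroup T, (∀ s ∈ S, α s ∈ S) → S ≠ ⊤ → ∀ s ∈ S, α s = s

section G

variable (p : ℕ) (G : Type u) [Group G]

def sA : Subgroup G := Subgroup.centralizer (Cfsg.pCore p G : Set G)

instance sA_normal : (sA p G).Normal := by
  haveI : (Cfsg.pCore p G).Normal := Cfsg.Agent.Lib.Helper1.pCore_normal p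
  exact Subgroup.normal_centralizer

def sN : Subgroup G where
  carrier := {g | ∀ f ∈ Cfsg.pCore p G, ⁅g, f⁆ ∈ sA p G}
  one_mem' := by
    intro f _
    rw [commutatorElement_def]
    simp
  mul_mem' := by
    intro a b ha hb f hf
    have e : ⁅a * b, f⁆ = a * ⁅b, f⁆ * a⁻¹ * ⁅a, f⁆ := by
      simp only [commutatorElement_def]
      group
    rw [e]
    exact (sA p G).mul_mem ((sA_normal p G).conj_mem _ (hb f hf) a) (ha f hf)
  inv_mem' := by
    intro a ha f hf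
    have e : ⁅a⁻¹, f⁆ = a⁻¹ * ⁅a, f⁆⁻¹ * a⁻¹⁻¹ := by
      simp only [commutatorElement_def]
      group
    rw [e]
    exact (sA_normal p G).conj_mem _ ((sA p G).inv_mem (ha f hf)) a⁻¹

theorem mem_sN (g : G) : g ∈ sN p G ↔ ∀ f ∈ Cfsg.pCore p G, ⁅g, f⁆ ∈ sA p G := Iff.rfl

instance sN_normal : (sN p G).Normal where
  conj_mem := by
    intro n hn g f hf
    haveI : (Cfsg.pCore p G).Normal := Cfsg.Agent.Lib.Helper1.pCore_normal p
    have hf' : g⁻¹ * f * g⁻¹⁻¹ ∈ Cfsg.pCore p G :=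
      (Cfsg.Agent.Lib.Helper1.pCore_normal p).conj_mem f hf g⁻¹
    have e : ⁅g * n * g⁻¹, f⁆ = g * ⁅n, g⁻¹ * f * g⁻¹⁻¹⁆ * g⁻¹ := by
      simp only [commutatorElement_def]
      group
    rw [e]
    exact (sA_normal p G).conj_mem _ (hn _ hf') g

noncomputable def sRho : G →* MulAut ↥(sA p G) := MulAut.conjNormal

theorem sRho_apply (g : G) (a : ↥(sA p G)) : ((sRho p G g a : ↥(sA p G)) : G) = g * a * g⁻¹ := rfl

noncomputable def sGam : Subgroup (MulAut ↥(sA p G)) := (sN p G).map (sRho p G)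

end G

section E

variable {p : ℕ} {G : Type u} [Group G]

noncomputable def sE (Q : Subgroup G) : Subgroup ↥(sGam p G) :=
  (Q.map (sRho p G)).subgroupOf (sGam p G)

def sZ (Q : Subgroup G) : Subgroup ↥(sA p G) :=
  (Q ⊓ Subgroup.centralizer (Q : Set G)).subgroupOf (sA p G)

def sD (Q : Subgroup G) : Subgroup ↥(sA p G) := (⁅Q, Q⁆).subgroupOf (sA p G)

end E

end Cfsg.Agent.Lib.Helper24.SCH
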